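import Cfsg.Agent.H125.Hall.Defs

/-!
# Frames: first lemmas (TEAM HALLPRO, S2223, helper244)

`Fr.irr` : `Q i` is irreducible on `U_i = mv ρ (t i)`; `Fr.triv`, `Fr.Qtriv` : `t i` and `Q i` act trivially on `U_j`, `j ≠ i`;
`Fr.sum` : `2 v = ∑ (v - t_i v)` if `V0 = ⊥`; `form_ne` : an invariant nondegenerate form is nondegenerate on `U_i`.
-/

set_option autoImplicit false
set_option linter.unusedSectionVars false

namespace Cfsg.Agent.H244.Hall

open Subgroup Cfsg.Agent.Cit Cfsg.Agent.H125.Hall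

section Basic

variable {k : Type*} [Field k] {V : Type*} [AddCommGroup V] [Module k V] {A : Type*} [Group A]
  {ρ : A →* (V →ₗ[k] V)}

theorem rmul (a b : A) (v : V) : ρ (a * b) v = ρ a (ρ b v) := by rw [map_mul, Module.End.mul_apply]

theorem rone (v : V) : ρ 1 v = v := by rw [map_one, Module.End.one_apply]

theorem rinv (a : A) (v : V) : ρ a⁻¹ (ρ a v) = v := by rw [← rmul, inv_mul_cancel, rone]

theorem rinv' (a : A) (v : V) : ρ a (ρ a⁻¹ v) = v := by rw [← rmul, mul_inv_cancel, rone]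

theorem rho_inj (a : A) {v w : V} (h : ρ a v = ρ a w) : v = w := by rw [← rinv (ρ := ρ) a v, h, rinv]

theorem rho_ne (a : A) {v : V} (h : v ≠ 0) : ρ a v ≠ 0 := fun h0 => h (rho_inj (ρ := ρ) a (by rw [h0, map_zero]))

theorem mem_mv {g : A} {v : V} : v ∈ mv ρ g ↔ ∃ w, ρ g w - w = v := by
  show v ∈ LinearMap.range (ρ g - 1) ↔ _
  rw [LinearMap.mem_range]
  rfl

theorem sub_mem_mv (g : A) (v : V) : v - ρ g v ∈ mv ρ g := by
  rw [mem_mv]
  exact ⟨-v, by rw [map_neg]; abel⟩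

theorem neg_of_mem {t : A} (ht : t * t = 1) {v : V} (hv : v ∈ mv ρ t) : ρ t v = -v := by
  obtain ⟨w, rfl⟩ := mem_mv.1 hv
  rw [map_sub, ← rmul, ht, rone]
  abel

theorem mem_of_neg (h2 : (2 : k) ≠ 0) {t : A} {v : V} (hv : ρ t v = -v) : v ∈ mv ρ t := by
  rw [mem_mv]
  refine ⟨-((2 : k)⁻¹ • v), ?_⟩
  rw [map_neg, map_smul, hv, smul_neg, neg_neg, sub_neg_eq_add, ← add_smul]
  have : (2 : k)⁻¹ + (2 : k)⁻¹ = 1 := by
    field_simp
    norm_num
  rw [this, one_smul]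

theorem mv_conj (x t : A) {v : V} (hv : v ∈ mv ρ t) : ρ x v ∈ mv ρ (x * t * x⁻¹) := by
  obtain ⟨w, rfl⟩ := mem_mv.1 hv
  rw [mem_mv]
  refine ⟨ρ x w, ?_⟩
  rw [rmul, rmul, rinv, map_sub]

theorem mv_inv {x t : A} (h : x * t = t * x) {v : V} (hv : v ∈ mv ρ t) : ρ x v ∈ mv ρ t := by
  have h1 := mv_conj x t hv
  rwa [h, mul_inv_cancel_right] at h1

theorem fix_add {t : A} (ht : t * t = 1) (v : V) : ρ t (v + ρ t v) = v + ρ t v := by
  rw [map_add, ← rmul, ht, rone, add_comm]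

theorem two_smul_ne (h2 : (2 : k) ≠ 0) {v : V} (h : v = -v) : v = 0 := by
  have h1 : (2 : k) • v = 0 := by
    rw [two_smul]
    nth_rewrite 1 [h]
    exact neg_add_cancel v
  exact (smul_eq_zero.1 h1).resolve_left h2

/-- quaternion relations -/
theorem q8 {Q : Subgroup A} (hQ : AutQuat.IsQ Q) {t : A} (ht : t ∈ Q) (ho : orderOf t = 2) :
    ∃ a ∈ Q, ∃ b ∈ Q, a * a = t ∧ a * b * a = b := by
  obtain ⟨a, ha, h4⟩ := hQ.exists_four
  obtain ⟨b, hb, hba⟩ := hQ.exists_inverts a ha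
  obtain ⟨z, -, -, hz⟩ := hQ.exists_inv
  have h1 := AutQuat.IsQ.sq_eq hz ha h4
  refine ⟨a, ha, b, hb, ?_, ?_⟩
  · rw [← pow_two, h1, hz t ht ho]
  · have h2 : b * a = a⁻¹ * b := by
      rw [← hba]
      group
    rw [mul_assoc, h2, mul_inv_cancel_left]

theorem mul_self_of_ord {t : A} (h : orderOf t = 2) : t * t = 1 := by
  rw [← pow_two, ← h, pow_orderOf_eq_one]

end Basic

section Frames

variable {k : Type*} [Field k] {V : Type*} [AddCommGroup V] [Module k V] {A : Type*} [Group A] [Finite A]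
  {ρ : A →* (V →ₗ[k] V)} {S : Sylow 2 A} {ι : Type*} {t : ι → A} {Q : ι → Subgroup A} {V0 : Submodule k V}

theorem tt (h : Fr ρ S t Q V0) (i : ι) : t i * t i = 1 := mul_self_of_ord (h.ord i)

theorem Qt (h : Fr ρ S t Q V0) {i : ι} {x : A} (hx : x ∈ Q i) : x * t i = t i * x := (h.QK i hx).1

theorem ttcomm (h : Fr ρ S t Q V0) (i j : ι) : t i * t j = t j * t i := by
  by_cases hij : i = j
  · rw [hij]
  · exact h.comm i j hij _ (h.mem i) _ (h.mem j)

theorem U_ne (h : Fr ρ S t Q V0) (i : ι) : mv ρ (t i) ≠ ⊥ := by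
  intro h0
  have h1 := h.dim i
  rw [h0, finrank_bot] at h1
  omega

theorem fin_U (h : Fr ρ S t Q V0) (i : ι) : FiniteDimensional k ↥(mv ρ (t i)) :=
  Module.finite_of_finrank_pos (by rw [h.dim i]; norm_num)

/-- **`Q i` is irreducible on `U_i`.** -/
theorem Fr.irr (h : Fr ρ S t Q V0) (i : ι) {W : Submodule k V} (hW : W ≤ mv ρ (t i))
    (hinv : ∀ x ∈ Q i, ∀ v ∈ W, ρ x v ∈ W) (hne : W ≠ ⊥) : W = mv ρ (t i) := by
  have := fin_U h i
  have hfW : FiniteDimensional k ↥W := Submodule.finiteDimensional_of_le hW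
  have h1 : Module.finrank k W ≤ 2 := by
    rw [← h.dim i]
    exact Submodule.finrank_mono hW
  have h0 : Module.finrank k W ≠ 0 := by
    intro h0
    exact hne (Submodule.finrank_eq_zero.1 h0)
  have h2 : Module.finrank k W ≠ 1 := by
    intro h1
    obtain ⟨⟨w, hw⟩, hw0, hws⟩ := finrank_eq_one_iff'.1 h1
    have hw0' : w ≠ 0 := fun h0 => hw0 (Subtype.ext h0)
    have hws' : ∀ v ∈ W, ∃ c : k, c • w = v := fun v hv => by
      obtain ⟨c, hc⟩ := hws ⟨v, hv⟩
      exact ⟨c, congrArg Subtype.val hc⟩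
    obtain ⟨a, ha, b, hb, hat, hab⟩ := q8 (h.isQ i) (h.mem i) (h.ord i)
    obtain ⟨c, hc⟩ := hws' _ (hinv a ha w hw)
    obtain ⟨d, hd⟩ := hws' _ (hinv b hb w hw)
    have h3 : (c * c) • w = -w := by
      rw [← neg_of_mem (tt h i) (hW hw), ← hat, rmul, ← hc, map_smul, ← hc, smul_smul]
    have h4 : (c * c) • (d • w) = d • w := by
      have e1 : ρ (a * b * a) w = d • w := by rw [hab, hd]
      have e2 : ρ (a * b * a) w = (c * c) • (d • w) := by
        rw [rmul, rmul, ← hc, map_smul, ← hd, map_smul, map_smul, ← hc, smul_smul, smul_smul, smul_smul]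
        congr 1
        ring
      exact e2.symm.trans e1
    rw [smul_comm, h3, smul_neg] at h4
    have h5 := two_smul_ne h.two h4.symm
    have h6 : ρ b w = 0 := by rw [← hd, h5]
    exact rho_ne b hw0' h6
  refine Submodule.eq_of_le_of_finrank_eq hW ?_
  rw [h.dim i]
  omega

/-- **`t i` is trivial on `U_j`.** -/
theorem Fr.triv [IsAlgClosed k] (h : Fr ρ S t Q V0) {i j : ι} (hij : i ≠ j) {v : V} (hv : v ∈ mv ρ (t j)) :
    ρ (t i) v = v := by
  by_contra hne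
  -- `U_j ≤ U_i`
  have hE : mv ρ (t j) ⊓ mv ρ (t i) = mv ρ (t j) := by
    refine Fr.irr h j inf_le_left ?_ ?_
    · intro x hx w hw
      exact ⟨mv_inv (Qt h hx) hw.1, mv_inv (h.comm j i (Ne.symm hij) x hx _ (h.mem i)) hw.2⟩
    · intro h0
      have h1 : v - ρ (t i) v ∈ mv ρ (t j) ⊓ mv ρ (t i) :=
        ⟨Submodule.sub_mem _ hv (mv_inv (ttcomm h i j) hv), sub_mem_mv _ _⟩
      rw [h0, Submodule.mem_bot, sub_eq_zero] at h1
      exact hne h1.symm
  have hle : mv ρ (t j) ≤ mv ρ (t i) := inf_eq_left.1 hE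
  obtain ⟨a, ha, b, hb, hat, hab⟩ := q8 (h.isQ i) (h.mem i) (h.ord i)
  -- an eigenvector of `a` in `U_j`
  have hfin := fin_U h j
  have hnt : Nontrivial ↥(mv ρ (t j)) := Submodule.nontrivial_iff_ne_bot.2 (U_ne h j)
  have hpres : ∀ x ∈ Q i, ∀ w ∈ mv ρ (t j), ρ x w ∈ mv ρ (t j) := fun x hx w hw =>
    mv_inv (h.comm i j hij x hx _ (h.mem j)) hw
  obtain ⟨c, hc⟩ := Module.End.exists_eigenvalue ((ρ a).restrict (hpres a ha))
  obtain ⟨⟨w, hw⟩, hw1⟩ := hc.exists_hasEigenvector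
  have hw2 : ρ a w = c • w := congrArg Subtype.val hw1.apply_eq_smul
  have hw0 : w ≠ 0 := fun h0 => hw1.2 (Subtype.ext h0)
  let W : Submodule k V :=
    { carrier := {w | w ∈ mv ρ (t j) ∧ ρ a w = c • w}
      add_mem' := by
        rintro x y ⟨hx, hx'⟩ ⟨hy, hy'⟩
        exact ⟨Submodule.add_mem _ hx hy, by rw [map_add, hx', hy', smul_add]⟩
      zero_mem' := ⟨Submodule.zero_mem _, by rw [map_zero, smul_zero]⟩
      smul_mem' := by
        rintro d x ⟨hx, hx'⟩
        exact ⟨Submodule.smul_mem _ _ hx, by rw [map_smul, hx', smul_comm]⟩ }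
  have hWe : W = mv ρ (t j) := by
    refine Fr.irr h j (fun x hx => hx.1) ?_ ?_
    · rintro x hx y ⟨hy, hy'⟩
      refine ⟨mv_inv (Qt h hx) hy, ?_⟩
      have e1 : a * x = x * a := h.comm i j hij a ha x hx
      rw [← rmul, e1, rmul, hy', map_smul]
    · intro h0
      have : w ∈ W := ⟨hw, hw2⟩
      rw [h0, Submodule.mem_bot] at this
      exact hw0 this
  have hall : ∀ y ∈ mv ρ (t j), ρ a y = c • y := fun y hy => by
    rw [← hWe] at hy
    exact hy.2
  have h3 : (c * c) • w = -w := by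
    rw [← neg_of_mem (tt h i) (hle hw), ← hat, rmul, hw2, map_smul, hw2, smul_smul]
  have h4 : (c * c) • ρ b w = ρ b w := by
    have e1 : ρ (a * b * a) w = ρ b w := by rw [hab]
    rw [rmul, rmul, hw2, map_smul, map_smul, hall _ (hpres b hb w hw), smul_smul] at e1
    exact e1
  rw [← map_smul, h3, map_neg] at h4
  exact rho_ne b hw0 (two_smul_ne h.two h4.symm)

/-- `Q i` is trivial on `U_j` -/
theorem Fr.Qtriv [IsAlgClosed k] (h : Fr ρ S t Q V0) {i j : ι} (hij : i ≠ j) {x : A} (hx : x ∈ Q i) {v : V}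
    (hv : v ∈ mv ρ (t j)) : ρ x v = v := (h.QK i hx).2 v (Fr.triv h hij hv)

/-- the `U_i` generate if `V0 = ⊥` -/
theorem Fr.sum [IsAlgClosed k] [Fintype ι] (h : Fr ρ S t Q ⊥) (v : V) :
    (2 : k) • v = ∑ i, (v - ρ (t i) v) := by
  classical
  rw [← sub_eq_zero, ← Submodule.mem_bot k, h.V0_eq]
  intro j
  have h1 : ρ (t j) (∑ i, (v - ρ (t i) v)) = ∑ i, (v - ρ (t i) v) - (2 : k) • (v - ρ (t j) v) := by
    rw [map_sum]
    have h2 : ∀ i, ρ (t j) (v - ρ (t i) v) = (v - ρ (t i) v) - if i = j then (2 : k) • (v - ρ (t j) v) else 0 := by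
      intro i
      by_cases hij : i = j
      · subst hij
        rw [if_pos rfl, neg_of_mem (tt h i) (sub_mem_mv _ _), two_smul]
        abel
      · rw [if_neg hij, sub_zero, Fr.triv h (Ne.symm hij) (sub_mem_mv _ _)]
    rw [Finset.sum_congr rfl fun i _ => h2 i, Finset.sum_sub_distrib, Finset.sum_ite_eq' Finset.univ j,
      if_pos (Finset.mem_univ j)]
  rw [map_sub, map_smul, h1, smul_sub]
  abel

/-- the form is nondegenerate on `U_i` -/
theorem form_ne (h2 : (2 : k) ≠ 0) {t : A} (ht : t * t = 1) {B : LinearMap.BilinForm k V} (hB : B.Nondegenerate)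
    (hinv : ∀ a v w, B (ρ a v) (ρ a w) = B v w) {u : V} (hu : u ∈ mv ρ t) (h0 : u ≠ 0) :
    ∃ w ∈ mv ρ t, B u w ≠ 0 := by
  by_contra hcon
  push Not at hcon
  apply h0
  refine hB.1 u fun v => ?_
  have h3 : B u (v + ρ t v) = 0 := by
    have h4 := hinv t u (v + ρ t v)
    rw [neg_of_mem ht hu, fix_add ht, map_neg, LinearMap.neg_apply] at h4
    have h5 : (2 : k) * B u (v + ρ t v) = 0 := by linear_combination -h4
    exact (mul_eq_zero.1 h5).resolve_left h2
  have h4 := hcon _ (sub_mem_mv t v)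
  rw [map_add] at h3
  rw [map_sub] at h4
  have h5 : (2 : k) * B u v = 0 := by linear_combination h3 + h4
  exact (mul_eq_zero.1 h5).resolve_left h2

end Frames

end Cfsg.Agent.H244.Hall
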