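import Cfsg.Agent.H244.Hall.FrBasic

/-!
# Odd cores, symplectic case (TEAM HALLPRO, S2223, piece S1, helper244)

`dec_odd_of` : `FrSp` and a nontrivial normal subgroup `R` of odd prime power order centralised by all `t i` give `Dec`.
-/

set_option autoImplicit false
set_option linter.unusedSectionVars false

namespace Cfsg.Agent.H244.Hall

open Subgroup Cfsg.Agent.Cit Cfsg.Agent.H125.Hall

section Odd

variable {k : Type*} [Field k] [IsAlgClosed k] {V : Type*} [AddCommGroup V] [Module k V] {A : Type*} [Group A]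
  [Finite A] {ρ : A →* (V →ₗ[k] V)} {S : Sylow 2 A} {ι : Type*} {t : ι → A} {Q : ι → Subgroup A}

/-- weight vectors -/
def Wt (ρ : A →* (V →ₗ[k] V)) (R : Subgroup A) (χ : A → k) (v : V) : Prop := ∀ x ∈ R, ρ x v = χ x • v

/-- the weight space in `U` -/
def WS (ρ : A →* (V →ₗ[k] V)) (R : Subgroup A) (χ : A → k) (U : Submodule k V) : Submodule k V where
  carrier := {w | w ∈ U ∧ Wt ρ R χ w}
  add_mem' := by
    rintro x y ⟨hx, hx'⟩ ⟨hy, hy'⟩
    exact ⟨Submodule.add_mem _ hx hy, fun z hz => by rw [map_add, hx' z hz, hy' z hz, smul_add]⟩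
  zero_mem' := ⟨Submodule.zero_mem _, fun z _ => by rw [map_zero, smul_zero]⟩
  smul_mem' := by
    rintro d x ⟨hx, hx'⟩
    exact ⟨Submodule.smul_mem _ _ hx, fun z hz => by rw [map_smul, hx' z hz, smul_comm]⟩

/-- `R` is trivial on `U_i` -/
def Pt (ρ : A →* (V →ₗ[k] V)) (R : Subgroup A) (t : ι → A) (i : ι) : Prop := ∀ x ∈ R, ∀ v ∈ mv ρ (t i), ρ x v = v

theorem wt_conj {R : Subgroup A} (hR : R.Normal) {χ : A → k} {v : V} (hv : Wt ρ R χ v) (a : A) :
    Wt ρ R (fun x => χ (a⁻¹ * x * a)) (ρ a v) := by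
  intro x hx
  have h1 : a⁻¹ * x * a ∈ R := by
    have := hR.conj_mem x hx a⁻¹
    rwa [inv_inv] at this
  have h2 : x * a = a * (a⁻¹ * x * a) := by group
  rw [← rmul, h2, rmul, hv _ h1, map_smul]

/-- a uniform weight on `U_i` is trivial -/
theorem pt_of_wt (h : Fr ρ S t Q ⊥) {B : LinearMap.BilinForm k V} (hB : B.Nondegenerate)
    (hinv : ∀ a v w, B (ρ a v) (ρ a w) = B v w) {R : Subgroup A} (hodd : ∀ x ∈ R, ∃ l, x ^ (2 * l + 1) = 1) {i : ι}
    {χ : A → k} (hχ : WS ρ R χ (mv ρ (t i)) = mv ρ (t i)) : Pt ρ R t i := by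
  intro x hx w hw
  have hall : ∀ v ∈ mv ρ (t i), ρ x v = χ x • v := fun v hv => by
    rw [← hχ] at hv
    exact hv.2 x hx
  obtain ⟨u, hu, hu0⟩ := Submodule.exists_mem_ne_zero_of_ne_bot (U_ne h i)
  obtain ⟨z, hz, huz⟩ := form_ne h.two (tt h i) hB hinv hu hu0
  have h1 := hinv x u z
  rw [hall u hu, hall z hz, map_smul, map_smul, LinearMap.smul_apply, smul_eq_mul, smul_eq_mul] at h1
  have h2 : χ x ^ 2 = 1 := by
    have h3 : (χ x ^ 2 - 1) * B u z = 0 := by linear_combination h1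
    exact sub_eq_zero.1 ((mul_eq_zero.1 h3).resolve_right huz)
  obtain ⟨l, hl⟩ := hodd x hx
  have h3 : ∀ n : ℕ, ρ (x ^ n) u = (χ x) ^ n • u := by
    intro n
    induction n with
    | zero => rw [pow_zero, rone, pow_zero, one_smul]
    | succ n ih => rw [pow_succ', rmul, ih, map_smul, hall u hu, smul_smul, pow_succ]
  have h4 := h3 (2 * l + 1)
  rw [hl, rone, pow_succ, pow_mul, h2, one_pow, one_mul] at h4
  have h5 : (χ x - 1) • u = 0 := by rw [sub_smul, one_smul, ← h4, sub_self]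
  have h6 : χ x = 1 := sub_eq_zero.1 ((smul_eq_zero.1 h5).resolve_right hu0)
  rw [hall w hw, h6, one_smul]

theorem eq_of_wt (h : Fr ρ S t Q ⊥) {B : LinearMap.BilinForm k V} (hB : B.Nondegenerate)
    (hinv : ∀ a v w, B (ρ a v) (ρ a w) = B v w) {R : Subgroup A} (hR : R.Normal)
    (hodd : ∀ x ∈ R, ∃ l, x ^ (2 * l + 1) = 1) {i j : ι} (hnt : ¬ Pt ρ R t i) {u v : V} (hu : u ∈ mv ρ (t i))
    (hu0 : u ≠ 0) (hv : v ∈ mv ρ (t j)) (hv0 : v ≠ 0) {χ ψ : A → k} (h1 : Wt ρ R χ u) (h2 : Wt ρ R ψ v)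
    (h3 : (∀ x ∈ R, χ x = ψ x) ∨ ∀ x ∈ R, χ x * ψ x = 1) : i = j := by
  by_contra hij
  apply hnt
  have hψ : ∀ a ∈ Q i, ∀ x ∈ R, ψ (a * x * a⁻¹) = ψ x := by
    intro a ha x hx
    have h4 := h2 _ (hR.conj_mem x hx a)
    rw [rmul, rmul, Fr.Qtriv h hij ((Q i).inv_mem ha) hv, h2 x hx, map_smul, Fr.Qtriv h hij ha hv] at h4
    have h5 : (ψ (a * x * a⁻¹) - ψ x) • v = 0 := by rw [sub_smul, ← h4, sub_self]
    exact sub_eq_zero.1 ((smul_eq_zero.1 h5).resolve_right hv0)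
  have hχ : ∀ a ∈ Q i, ∀ x ∈ R, χ (a * x * a⁻¹) = χ x := by
    intro a ha x hx
    have hx' := hR.conj_mem x hx a
    rcases h3 with h3 | h3
    · rw [h3 _ hx', h3 _ hx, hψ a ha x hx]
    · have h4 := h3 _ hx'
      have h5 := h3 _ hx
      rw [hψ a ha x hx] at h4
      have h6 : ψ x ≠ 0 := fun h0 => by
        rw [h0, mul_zero] at h5
        exact zero_ne_one h5
      exact mul_right_cancel₀ h6 (h4.trans h5.symm)
  refine pt_of_wt h hB hinv hodd (χ := χ) (Fr.irr h i (fun w hw => hw.1) ?_ ?_)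
  · rintro a ha w ⟨hw, hw'⟩
    refine ⟨mv_inv (Qt h ha) hw, fun x hx => ?_⟩
    have h4 := wt_conj hR hw' a x hx
    have h5 := hχ a⁻¹ ((Q i).inv_mem ha) x hx
    rw [inv_inv] at h5
    rw [h4]
    show χ (a⁻¹ * x * a) • ρ a w = _
    rw [h5]
  · intro h0
    have h4 : u ∈ WS ρ R χ (mv ρ (t i)) := ⟨hu, h1⟩
    rw [h0, Submodule.mem_bot] at h4
    exact hu0 h4

/-- a common eigenvector in `U_i` -/
theorem exists_wt (h : Fr ρ S t Q ⊥) {R : Subgroup A} (hab : ∀ x ∈ R, ∀ y ∈ R, x * y = y * x)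
    (hO : ∀ i, ∀ x ∈ R, t i * x = x * t i) (i : ι) : ∃ u ∈ mv ρ (t i), u ≠ 0 ∧ ∃ χ : A → k, Wt ρ R χ u := by
  classical
  have hfin := fin_U h i
  have hnt : Nontrivial ↥(mv ρ (t i)) := Submodule.nontrivial_iff_ne_bot.2 (U_ne h i)
  have hpres : ∀ x ∈ R, ∀ w ∈ mv ρ (t i), ρ x w ∈ mv ρ (t i) := fun x hx w hw => mv_inv (hO i x hx).symm hw
  suffices h1 : ∃ u ∈ mv ρ (t i), u ≠ 0 ∧ ∀ x ∈ R, ∃ c : k, ρ x u = c • u by
    obtain ⟨u, hu, hu0, hc⟩ := h1
    refine ⟨u, hu, hu0, fun x => if hx : x ∈ R then (hc x hx).choose else 0, fun x hx => ?_⟩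
    show _ = (if hx : x ∈ R then (hc x hx).choose else 0) • u
    rw [dif_pos hx]
    exact (hc x hx).choose_spec
  by_cases hs : ∀ x ∈ R, ∃ c : k, ∀ w ∈ mv ρ (t i), ρ x w = c • w
  · obtain ⟨u, hu, hu0⟩ := Submodule.exists_mem_ne_zero_of_ne_bot (U_ne h i)
    refine ⟨u, hu, hu0, fun x hx => ?_⟩
    obtain ⟨c, hc⟩ := hs x hx
    exact ⟨c, hc u hu⟩
  · push Not at hs
    obtain ⟨x, hx, hxs⟩ := hs
    obtain ⟨c, hc⟩ := Module.End.exists_eigenvalue ((ρ x).restrict (hpres x hx))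
    obtain ⟨⟨w, hw⟩, hw1⟩ := hc.exists_hasEigenvector
    have hw2 : ρ x w = c • w := congrArg Subtype.val hw1.apply_eq_smul
    have hw0 : w ≠ 0 := fun h0 => hw1.2 (Subtype.ext h0)
    let W : Submodule k V :=
      { carrier := {w | w ∈ mv ρ (t i) ∧ ρ x w = c • w}
        add_mem' := by
          rintro x y ⟨hx, hx'⟩ ⟨hy, hy'⟩
          exact ⟨Submodule.add_mem _ hx hy, by rw [map_add, hx', hy', smul_add]⟩
        zero_mem' := ⟨Submodule.zero_mem _, by rw [map_zero, smul_zero]⟩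
        smul_mem' := by
          rintro d x ⟨hx, hx'⟩
          exact ⟨Submodule.smul_mem _ _ hx, by rw [map_smul, hx', smul_comm]⟩ }
    have hWle : W ≤ mv ρ (t i) := fun y hy => hy.1
    have hwW : w ∈ W := ⟨hw, hw2⟩
    have hfW : FiniteDimensional k ↥W := Submodule.finiteDimensional_of_le hWle
    have h1 : Module.finrank k W ≤ 2 := by
      rw [← h.dim i]
      exact Submodule.finrank_mono hWle
    have h0 : Module.finrank k W ≠ 0 := by
      intro h0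
      have h3 := Submodule.finrank_eq_zero.1 h0
      rw [h3, Submodule.mem_bot] at hwW
      exact hw0 hwW
    have h2 : Module.finrank k W ≠ 2 := by
      intro h2
      have h3 : W = mv ρ (t i) := Submodule.eq_of_le_of_finrank_eq hWle (by rw [h2, h.dim i])
      obtain ⟨z, hz, hzc⟩ := hxs c
      rw [← h3] at hz
      exact hzc hz.2
    obtain ⟨⟨z, hz⟩, hz0, hzs⟩ := finrank_eq_one_iff'.1 (by omega : Module.finrank k W = 1)
    refine ⟨z, hz.1, fun h0 => hz0 (Subtype.ext h0), fun y hy => ?_⟩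
    have h3 : ρ y z ∈ W := by
      refine ⟨hpres y hy z hz.1, ?_⟩
      rw [← rmul, hab x hx y hy, rmul, hz.2, map_smul]
    obtain ⟨d, hd⟩ := hzs ⟨_, h3⟩
    exact ⟨d, (congrArg Subtype.val hd).symm⟩

/-- the two weights on `U_i` -/
theorem exists_pair (h : Fr ρ S t Q ⊥) {B : LinearMap.BilinForm k V} (hB : B.Nondegenerate) (halt : B.IsAlt)
    (hinv : ∀ a v w, B (ρ a v) (ρ a w) = B v w) {R : Subgroup A} (hR : R.Normal)
    (hodd : ∀ x ∈ R, ∃ l, x ^ (2 * l + 1) = 1) (hab : ∀ x ∈ R, ∀ y ∈ R, x * y = y * x)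
    (hO : ∀ i, ∀ x ∈ R, t i * x = x * t i) {i : ι} (hnt : ¬ Pt ρ R t i) :
    ∃ e ∈ mv ρ (t i), ∃ f ∈ mv ρ (t i), e ≠ 0 ∧ f ≠ 0 ∧ (∀ w ∈ mv ρ (t i), ∃ c d : k, c • e + d • f = w) ∧
      ∃ χ ψ : A → k, Wt ρ R χ e ∧ Wt ρ R ψ f ∧ ∀ x ∈ R, χ x * ψ x = 1 := by
  obtain ⟨u, hu, hu0, χ, hχ⟩ := exists_wt h hab hO i
  have huW : u ∈ WS ρ R χ (mv ρ (t i)) := ⟨hu, hχ⟩
  obtain ⟨b, hb, e, he, hbe⟩ : ∃ b ∈ Q i, ∃ e ∈ WS ρ R χ (mv ρ (t i)), ρ b e ∉ WS ρ R χ (mv ρ (t i)) := by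
    by_contra hcon
    push Not at hcon
    refine hnt (pt_of_wt h hB hinv hodd (χ := χ) (Fr.irr h i (fun w hw => hw.1) hcon ?_))
    intro h0
    rw [h0, Submodule.mem_bot] at huW
    exact hu0 huW
  have he0 : e ≠ 0 := by
    rintro rfl
    exact hbe (by rw [map_zero]; exact Submodule.zero_mem _)
  have hf : ρ b e ∈ mv ρ (t i) := mv_inv (Qt h hb) he.1
  have hli : LinearIndependent k ![e, ρ b e] := by
    rw [LinearIndependent.pair_iff]
    intro c d hcd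
    have hd : d = 0 := by
      by_contra hd
      apply hbe
      have h1 : ρ b e = (-(d⁻¹ * c)) • e := by
        have h2 : d • ρ b e = -(c • e) := eq_neg_of_add_eq_zero_right hcd
        rw [neg_smul, mul_smul, ← smul_neg, ← h2, smul_smul, inv_mul_cancel₀ hd, one_smul]
      rw [h1]
      exact Submodule.smul_mem _ _ he
    subst hd
    rw [zero_smul, add_zero] at hcd
    exact ⟨(smul_eq_zero.1 hcd).resolve_right he0, rfl⟩
  have hfin := fin_U h i
  have hspan : Submodule.span k {e, ρ b e} = mv ρ (t i) := by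
    refine Submodule.eq_of_le_of_finrank_eq ?_ ?_
    · rw [Submodule.span_le]
      rintro x (rfl | rfl)
      · exact he.1
      · exact hf
    · have h1 := finrank_span_eq_card hli
      rw [Matrix.range_cons, Matrix.range_cons, Matrix.range_empty, Set.union_empty, Set.singleton_union,
        Fintype.card_fin] at h1
      rw [h1, h.dim i]
  have hsp : ∀ w ∈ mv ρ (t i), ∃ c d : k, c • e + d • ρ b e = w := fun w hw => by
    rw [← hspan, Submodule.mem_span_pair] at hw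
    exact hw
  refine ⟨e, he.1, ρ b e, hf, he0, rho_ne b he0, hsp, χ, _, he.2, wt_conj hR he.2 b, fun x hx => ?_⟩
  obtain ⟨z, hz, hez⟩ := form_ne h.two (tt h i) hB hinv he.1 he0
  obtain ⟨c, d, rfl⟩ := hsp z hz
  rw [map_add, map_smul, map_smul, halt e, smul_zero, zero_add, smul_eq_mul] at hez
  have hef : B e (ρ b e) ≠ 0 := right_ne_zero_of_mul hez
  have h1 := hinv x e (ρ b e)
  rw [he.2 x hx, wt_conj hR he.2 b x hx, map_smul, map_smul, LinearMap.smul_apply, smul_eq_mul, smul_eq_mul] at h1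
  have h2 : (χ x * χ (b⁻¹ * x * b) - 1) * B e (ρ b e) = 0 := by linear_combination h1
  exact sub_eq_zero.1 ((mul_eq_zero.1 h2).resolve_right hef)

/-- all weight vectors lie in one of the `U_j` -/
theorem mem_U_of_wt [Finite ι] (h : Fr ρ S t Q ⊥) {B : LinearMap.BilinForm k V} (hB : B.Nondegenerate)
    (hinv : ∀ a v w, B (ρ a v) (ρ a w) = B v w) {R : Subgroup A} (hR : R.Normal)
    (hodd : ∀ x ∈ R, ∃ l, x ^ (2 * l + 1) = 1) (hO : ∀ i, ∀ x ∈ R, t i * x = x * t i) (hnt : ∀ i, ¬ Pt ρ R t i)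
    {v : V} (hv0 : v ≠ 0) {ψ : A → k} (hψ : Wt ρ R ψ v) : ∃ j, v ∈ mv ρ (t j) := by
  classical
  have : Fintype ι := Fintype.ofFinite ι
  have hw : ∀ j, Wt ρ R ψ (v - ρ (t j) v) := by
    intro j x hx
    rw [map_sub, ← rmul, ← hO j x hx, rmul, hψ x hx, map_smul, smul_sub]
  have hs := Fr.sum h v
  obtain ⟨j, hj⟩ : ∃ j, v - ρ (t j) v ≠ 0 := by
    by_contra hcon
    push Not at hcon
    rw [Finset.sum_eq_zero fun i _ => hcon i] at hs
    exact hv0 ((smul_eq_zero.1 hs).resolve_left h.two)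
  refine ⟨j, ?_⟩
  rw [Finset.sum_eq_single j ?_ fun hj' => absurd (Finset.mem_univ j) hj'] at hs
  · have h1 : v = (2 : k)⁻¹ • (v - ρ (t j) v) := by rw [← hs, smul_smul, inv_mul_cancel₀ h.two, one_smul]
    rw [h1]
    exact Submodule.smul_mem _ _ (sub_mem_mv _ _)
  · intro l _ hlj
    by_contra hl
    exact hlj (eq_of_wt h hB hinv hR hodd (hnt l) (sub_mem_mv _ _) hl (sub_mem_mv _ _) hj (hw l) (hw j)
      (Or.inl fun _ _ => rfl))

/-- the case that `R` is nontrivial on all `U_i` -/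
theorem map_U [Finite ι] (h : Fr ρ S t Q ⊥) {B : LinearMap.BilinForm k V} (hB : B.Nondegenerate) (halt : B.IsAlt)
    (hinv : ∀ a v w, B (ρ a v) (ρ a w) = B v w) {R : Subgroup A} (hR : R.Normal)
    (hodd : ∀ x ∈ R, ∃ l, x ^ (2 * l + 1) = 1) (hab : ∀ x ∈ R, ∀ y ∈ R, x * y = y * x)
    (hO : ∀ i, ∀ x ∈ R, t i * x = x * t i) (hnt : ∀ i, ¬ Pt ρ R t i) (a : A) (i : ι) :
    ∃ j, (mv ρ (t i)).map (ρ a) = mv ρ (t j) := by
  obtain ⟨e, he, f, hf, he0, hf0, hsp, χ, ψ, hχ, hψ, hχψ⟩ := exists_pair h hB halt hinv hR hodd hab hO (hnt i)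
  have h1 := wt_conj hR hχ a
  have h2 := wt_conj hR hψ a
  obtain ⟨j, hj⟩ := mem_U_of_wt h hB hinv hR hodd hO hnt (rho_ne a he0) h1
  obtain ⟨j', hj'⟩ := mem_U_of_wt h hB hinv hR hodd hO hnt (rho_ne a hf0) h2
  have h3 : j = j' := eq_of_wt h hB hinv hR hodd (hnt j) hj (rho_ne a he0) hj' (rho_ne a hf0) h1 h2 (Or.inr fun x hx => by
    have h4 : a⁻¹ * x * a ∈ R := by
      have := hR.conj_mem x hx a⁻¹
      rwa [inv_inv] at this
    exact hχψ _ h4)
  subst h3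
  refine ⟨j, ?_⟩
  have hfin := fin_U h j
  refine Submodule.eq_of_le_of_finrank_eq ?_ ?_
  · rintro _ ⟨w, hw, rfl⟩
    obtain ⟨c, d, rfl⟩ := hsp w hw
    rw [map_add, map_smul, map_smul]
    exact Submodule.add_mem _ (Submodule.smul_mem _ _ hj) (Submodule.smul_mem _ _ hj')
  · have hinj : Function.Injective (ρ a) := fun v w hvw => rho_inj a hvw
    rw [← (Submodule.equivMapOfInjective (ρ a) hinj (mv ρ (t i))).finrank_eq, h.dim i, h.dim j]

/-! ### The case that `R` is trivial on some of the `U_i` -/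

theorem map_eq_of {T : Submodule k V} (hT : ∀ a : A, ∀ v ∈ T, ρ a v ∈ T) (a : A) : T.map (ρ a) = T := by
  apply le_antisymm
  · rintro _ ⟨v, hv, rfl⟩
    exact hT a v hv
  · intro v hv
    exact ⟨ρ a⁻¹ v, hT _ v hv, rinv' a v⟩

/-- the fixed points of `R` -/
def Fx (ρ : A →* (V →ₗ[k] V)) (R : Subgroup A) : Submodule k V where
  carrier := {w | ∀ x ∈ R, ρ x w = w}
  add_mem' := by
    rintro x y hx hy
    exact fun z hz => by rw [map_add, hx z hz, hy z hz]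
  zero_mem' := fun z _ => by rw [map_zero]
  smul_mem' := by
    rintro d x hx
    exact fun z hz => by rw [map_smul, hx z hz]

theorem Fx_inv {R : Subgroup A} (hR : R.Normal) : ∀ a : A, ∀ v ∈ Fx ρ R, ρ a v ∈ Fx ρ R := by
  intro a v hv x hx
  have h1 : a⁻¹ * x * a ∈ R := by
    have := hR.conj_mem x hx a⁻¹
    rwa [inv_inv] at this
  have h2 : x * a = a * (a⁻¹ * x * a) := by group
  rw [← rmul, h2, rmul, hv _ h1]

theorem cm_inv {R : Subgroup A} (hR : R.Normal) : ∀ a : A, ∀ v ∈ cm ρ R, ρ a v ∈ cm ρ R := by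
  intro a v hv
  have h1 : cm ρ R ≤ (cm ρ R).comap (ρ a) := by
    refine iSup₂_le fun x hx w hw => ?_
    have h2 := mv_conj a x hw
    exact (le_iSup₂ (f := fun x (_ : x ∈ R) => mv ρ x) (a * x * a⁻¹) (hR.conj_mem x hx a)) h2
  exact h1 hv

theorem Fx_eq [Finite ι] (h : Fr ρ S t Q ⊥) {R : Subgroup A} (hR : R.Normal)
    (hO : ∀ i, ∀ x ∈ R, t i * x = x * t i) : (⨆ l, ⨆ _ : Pt ρ R t l, mv ρ (t l)) = Fx ρ R := by
  classical
  have : Fintype ι := Fintype.ofFinite ι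
  apply le_antisymm
  · exact iSup₂_le fun l hl w hw x hx => hl x hx w hw
  · intro v hv
    have h1 : v = (2 : k)⁻¹ • ∑ i, (v - ρ (t i) v) := by
      rw [← Fr.sum h v, smul_smul, inv_mul_cancel₀ h.two, one_smul]
    rw [h1]
    refine Submodule.smul_mem _ _ (Submodule.sum_mem _ fun l _ => ?_)
    by_cases hl : Pt ρ R t l
    · exact (le_iSup₂ (f := fun l (_ : Pt ρ R t l) => mv ρ (t l)) l hl) (sub_mem_mv _ _)
    · have h2 : v - ρ (t l) v ∈ mv ρ (t l) ⊓ Fx ρ R := by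
        refine ⟨sub_mem_mv _ _, Submodule.sub_mem _ hv (Fx_inv hR _ v hv)⟩
      have h3 : mv ρ (t l) ⊓ Fx ρ R = ⊥ := by
        by_contra hne
        have h4 := Fr.irr h l inf_le_left (fun x hx w hw => ⟨mv_inv (Qt h hx) hw.1, Fx_inv hR x w hw.2⟩) hne
        apply hl
        intro x hx w hw
        rw [← h4] at hw
        exact hw.2 x hx
      rw [h3, Submodule.mem_bot] at h2
      rw [h2]
      exact Submodule.zero_mem _

theorem cm_eq [Finite ι] (h : Fr ρ S t Q ⊥) {R : Subgroup A} (hR : R.Normal)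
    (hO : ∀ i, ∀ x ∈ R, t i * x = x * t i) : (⨆ l, ⨆ _ : ¬ Pt ρ R t l, mv ρ (t l)) = cm ρ R := by
  classical
  have : Fintype ι := Fintype.ofFinite ι
  apply le_antisymm
  · refine iSup₂_le fun l hl => ?_
    have h4 := Fr.irr h l (W := mv ρ (t l) ⊓ cm ρ R) inf_le_left
      (fun x hx w hw => ⟨mv_inv (Qt h hx) hw.1, cm_inv hR x w hw.2⟩) (fun h0 => by
        apply hl
        intro x hx w hw
        have h5 : ρ x w - w ∈ mv ρ (t l) ⊓ cm ρ R :=
          ⟨Submodule.sub_mem _ (mv_inv (hO l x hx).symm hw) hw,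
            (le_iSup₂ (f := fun x (_ : x ∈ R) => mv ρ x) x hx) (mem_mv.2 ⟨w, rfl⟩)⟩
        rw [h0, Submodule.mem_bot, sub_eq_zero] at h5
        exact h5)
    exact inf_eq_left.1 h4
  · refine iSup₂_le fun x hx v hv => ?_
    obtain ⟨w, rfl⟩ := mem_mv.1 hv
    have h1 : w = (2 : k)⁻¹ • ∑ i, (w - ρ (t i) w) := by
      rw [← Fr.sum h w, smul_smul, inv_mul_cancel₀ h.two, one_smul]
    have h2 : ρ x w - w = (2 : k)⁻¹ • ∑ i, (ρ x (w - ρ (t i) w) - (w - ρ (t i) w)) := by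
      rw [Finset.sum_sub_distrib, ← map_sum, smul_sub, ← map_smul, ← h1]
    rw [h2]
    refine Submodule.smul_mem _ _ (Submodule.sum_mem _ fun l _ => ?_)
    by_cases hl : Pt ρ R t l
    · rw [hl x hx _ (sub_mem_mv _ _), sub_self]
      exact Submodule.zero_mem _
    · refine (le_iSup₂ (f := fun l (_ : ¬ Pt ρ R t l) => mv ρ (t l)) l hl) ?_
      exact Submodule.sub_mem _ (mv_inv (hO l x hx).symm (sub_mem_mv _ _)) (sub_mem_mv _ _)

/-- **S1**, given that the `t i` centralise `R` and `R` is abelian. -/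
theorem dec_of_ab [Finite ι] (h : Fr ρ S t Q ⊥) {B : LinearMap.BilinForm k V} (hB : B.Nondegenerate)
    (halt : B.IsAlt) (hinv : ∀ a v w, B (ρ a v) (ρ a w) = B v w) (hι : 2 ≤ Nat.card ι) {R : Subgroup A}
    (hR : R.Normal) (hodd : ∀ x ∈ R, ∃ l, x ^ (2 * l + 1) = 1) (hab : ∀ x ∈ R, ∀ y ∈ R, x * y = y * x)
    (hO : ∀ i, ∀ x ∈ R, t i * x = x * t i) (hne : R ≠ ⊥) : Dec ρ t := by
  classical
  have : Fintype ι := Fintype.ofFinite ι
  by_cases hall : ∀ i, ¬ Pt ρ R t i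
  · refine ⟨⊥, ?_, fun a i => ?_⟩
    · have : Nontrivial ι := (Finite.one_lt_card_iff_nontrivial).1 (by omega)
      obtain ⟨i, j, hij⟩ := exists_pair_ne ι
      exact ⟨i, j, hij⟩
    · obtain ⟨j, hj⟩ := map_U h hB halt hinv hR hodd hab hO hall a i
      refine ⟨j, ?_⟩
      have e : ∀ i, (⨆ l, ⨆ _ : (⊥ : Setoid ι) i l, mv ρ (t l)) = mv ρ (t i) := by
        intro i
        apply le_antisymm
        · refine iSup₂_le fun l hl => ?_
          have : i = l := hl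
          rw [this]
        · exact le_iSup₂ (f := fun l (_ : (⊥ : Setoid ι) i l) => mv ρ (t l)) i rfl
      rw [e, e, hj]
  · push Not at hall
    obtain ⟨i₀, hi₀⟩ := hall
    obtain ⟨j₀, hj₀⟩ : ∃ j, ¬ Pt ρ R t j := by
      by_contra hcon
      push Not at hcon
      apply hne
      rw [eq_bot_iff]
      intro x hx
      rw [mem_bot]
      apply h.inj
      refine LinearMap.ext fun v => ?_
      rw [rone]
      have h1 : v ∈ Fx ρ R := by
        have h2 : v = (2 : k)⁻¹ • ∑ i, (v - ρ (t i) v) := by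
          rw [← Fr.sum h v, smul_smul, inv_mul_cancel₀ h.two, one_smul]
        rw [h2]
        exact Submodule.smul_mem _ _ (Submodule.sum_mem _ fun l _ => fun y hy => hcon l y hy _ (sub_mem_mv _ _))
      exact h1 x hx
    let e : Setoid ι := ⟨fun i j => (Pt ρ R t i ↔ Pt ρ R t j), fun _ => Iff.rfl, fun h => h.symm, fun h1 h2 => h1.trans h2⟩
    have he : ∀ i j, e i j ↔ (Pt ρ R t i ↔ Pt ρ R t j) := fun _ _ => Iff.rfl
    refine ⟨e, ⟨i₀, j₀, fun h1 => hj₀ (((he _ _).1 h1).1 hi₀)⟩, fun a i => ⟨i, ?_⟩⟩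
    by_cases hi : Pt ρ R t i
    · have e1 : (⨆ l, ⨆ _ : e i l, mv ρ (t l)) = Fx ρ R := by
        rw [← Fx_eq h hR hO]
        refine iSup_congr fun l => iSup_congr_Prop ?_ fun _ => rfl
        rw [he]
        exact ⟨fun h => h.1 hi, fun h => ⟨fun _ => h, fun _ => hi⟩⟩
      rw [e1]
      exact map_eq_of (Fx_inv hR) a
    · have e1 : (⨆ l, ⨆ _ : e i l, mv ρ (t l)) = cm ρ R := by
        rw [← cm_eq h hR hO]
        refine iSup_congr fun l => iSup_congr_Prop ?_ fun _ => rfl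
        rw [he]
        exact ⟨fun h h1 => hi (h.2 h1), fun h => ⟨fun h1 => absurd h1 hi, fun h1 => absurd h1 h⟩⟩
      rw [e1]
      exact map_eq_of (cm_inv hR) a

/-- **S1**, given that the `t i` centralise `R`. -/
theorem dec_odd_of [Finite ι] (h : Fr ρ S t Q ⊥) {B : LinearMap.BilinForm k V} (hB : B.Nondegenerate)
    (halt : B.IsAlt) (hinv : ∀ a v w, B (ρ a v) (ρ a w) = B v w) (hι : 2 ≤ Nat.card ι) {r : ℕ} (hr : r.Prime)
    (hr2 : r ≠ 2) {R : Subgroup A} (hR : R.Normal) (hRr : IsPGroup r R) (hO : ∀ i, ∀ x ∈ R, t i * x = x * t i)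
    (hne : R ≠ ⊥) : Dec ρ t := by
  have := Fact.mk hr
  have hle : (Subgroup.center R).map R.subtype ≤ R := map_subtype_le _
  have hnt : Nontrivial R := (Subgroup.nontrivial_iff_ne_bot R).2 hne
  refine dec_of_ab h hB halt hinv hι (R := (Subgroup.center R).map R.subtype) inferInstance ?_ ?_
    (fun i x hx => hO i x (hle hx)) ?_
  · intro x hx
    obtain ⟨n, hn⟩ := hRr ⟨x, hle hx⟩
    have hodd : Odd (r ^ n) := (hr.odd_of_ne_two hr2).pow
    obtain ⟨l, hl⟩ := hodd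
    exact ⟨l, by rw [← hl]; exact congrArg Subtype.val hn⟩
  · rintro _ ⟨x, hx, rfl⟩ _ ⟨y, hy, rfl⟩
    exact congrArg Subtype.val (Subgroup.mem_center_iff.1 hy x)
  · intro h0
    have h1 := hRr.center_nontrivial
    rw [Subgroup.map_eq_bot_iff_of_injective _ R.subtype_injective] at h0
    exact (Subgroup.nontrivial_iff_ne_bot _).1 h1 h0

theorem FrSp.dec_odd_of [Finite ι] (h : FrSp ρ S t Q) (hι : 3 ≤ Nat.card ι) {r : ℕ} (hr : r.Prime)
    (hr2 : r ≠ 2) {R : Subgroup A} (hR : R.Normal) (hRr : IsPGroup r R) (hO : ∀ i, ∀ x ∈ R, t i * x = x * t i)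
    (hne : R ≠ ⊥) : Dec ρ t := by
  obtain ⟨B, hB, halt, hinv⟩ := h.form
  exact Hall.dec_odd_of h.toFr hB halt hinv (by omega) hr hr2 hR hRr hO hne

end Odd

end Cfsg.Agent.H244.Hall
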